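import Groth.Agent.Lead.SiteCoh.Basic
import Mathlib.CategoryTheory.Abelian.RightDerived
import Mathlib.CategoryTheory.Preadditive.Yoneda.Limits

/-!
`Ext X -` is the right derived functor of `Hom(X, -)`; sheaf cohomology is the right derived functor
of sections.
-/

set_option autoImplicit false

universe v u

open CategoryTheory CategoryTheory.Limits Opposite Abelian

namespace Groth.Agent.SpecSeq

section

variable {A : Type u} [Category.{v} A] [Abelian A] [EnoughInjectives A] [HasExt.{v} A]

theorem nonempty_ext_iso_rightDerived (X F : A) (n : ℕ) :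
    Nonempty (AddCommGrpCat.of (Ext X F n) ≅ ((preadditiveCoyoneda.obj (op X)).rightDerived n).obj F) := by
  let R := injectiveResolution F
  let G := preadditiveCoyoneda.obj (op X)
  let K := (G.mapHomologicalComplex _).obj R.cocomplex
  let S := K.sc' ((ComplexShape.up ℕ).prev n) n (n + 1)
  let t : S.g.hom.ker →+ Ext X F n :=
    AddMonoidHom.mk' (fun z => R.extMk (X := X) z.1 (n + 1) rfl z.2)
      (fun a b => (R.add_extMk a.1 b.1 (n + 1) rfl a.2 b.2).symm)
  have hsurj : Function.Surjective t := fun x => by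
    obtain ⟨f, hf, rfl⟩ := R.extMk_surjective x (n + 1) rfl
    exact ⟨⟨f, hf⟩, rfl⟩
  have hker : S.abToCycles.range = t.ker := by
    ext ⟨f, hf⟩
    constructor
    · rintro ⟨g, hg⟩
      show R.extMk (X := X) f (n + 1) rfl hf = 0
      have e : (show X ⟶ R.cocomplex.X _ from g) ≫ R.cocomplex.d _ n = f := congrArg Subtype.val hg
      cases n with
      | zero =>
        rw [Groth.Agent.Lead.Flasque.ExtCompute.extMk_eq_zero_iff_zero, ← e, R.cocomplex.shape _ _ (by simp), comp_zero]
      | succ m =>
        rw [R.extMk_eq_zero_iff _ _ _ _ m rfl]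
        have hp : (ComplexShape.up ℕ).prev (m + 1) = m := CochainComplex.prev_nat_succ m
        refine ⟨(show X ⟶ R.cocomplex.X _ from g) ≫ (R.cocomplex.XIsoOfEq hp).hom, ?_⟩
        simp [← e]
    · intro h
      replace h : R.extMk (X := X) f (n + 1) rfl hf = 0 := h
      cases n with
      | zero =>
        rw [Groth.Agent.Lead.Flasque.ExtCompute.extMk_eq_zero_iff_zero] at h
        subst h
        exact ⟨0, map_zero _⟩
      | succ m =>
        rw [R.extMk_eq_zero_iff _ _ _ _ m rfl] at h
        obtain ⟨g, hg⟩ := h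
        have hp : (ComplexShape.up ℕ).prev (m + 1) = m := CochainComplex.prev_nat_succ m
        refine ⟨g ≫ (R.cocomplex.XIsoOfEq hp).inv, Subtype.ext ?_⟩
        show (g ≫ (R.cocomplex.XIsoOfEq hp).inv) ≫ R.cocomplex.d _ (m + 1) = f
        simp [hg]
  exact ⟨((QuotientAddGroup.quotientAddEquivOfEq hker).trans
      (QuotientAddGroup.quotientKerEquivOfSurjective t hsurj)).symm.toAddCommGrpIso ≪≫ S.abHomologyIso.symm ≪≫
    (ShortComplex.homologyMapIso (K.isoSc' _ n (n + 1) rfl (CochainComplex.next ℕ n))).symm ≪≫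
    (R.isoRightDerivedObj G n).symm⟩

end

section

variable {C : Type v} [SmallCategory C] (J : GrothendieckTopology C)

/-- sections over an object -/
noncomputable abbrev evalFun (V : C) : Sheaf J AddCommGrpCat.{v} ⥤ AddCommGrpCat.{v} :=
  sheafToPresheaf J AddCommGrpCat.{v} ⋙ (evaluation Cᵒᵖ AddCommGrpCat.{v}).obj (op V)

theorem freeEquiv_add (V : C) (G : Sheaf J AddCommGrpCat.{v}) (g h : CohCx.freeSheaf J V ⟶ G) :
    Lead.SiteCoh.freeEquiv V G (g + h) = Lead.SiteCoh.freeEquiv V G g + Lead.SiteCoh.freeEquiv V G h := by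
  have key : ∀ k : CohCx.freeSheaf J V ⟶ G, Lead.SiteCoh.freeEquiv V G k =
      k.hom.app (op V) (Lead.SiteCoh.freeEquiv V _ (𝟙 _)) := fun k => by
    rw [← Lead.SiteCoh.freeEquiv_comp, Category.id_comp]
  rw [key, key g, key h]
  rfl

noncomputable def coyonedaIsoEval (V : C) :
    preadditiveCoyoneda.obj (op (CohCx.freeSheaf J V)) ≅ evalFun J V :=
  NatIso.ofComponents
    (fun G => (AddEquiv.mk' (Lead.SiteCoh.freeEquiv V G) (freeEquiv_add J V G)).toAddCommGrpIso)
    (fun φ => by
      ext g
      exact Lead.SiteCoh.freeEquiv_comp V g φ)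

instance (V : C) : (evalFun J V).Additive := Functor.additive_of_iso (coyonedaIsoEval J V)

instance (V : C) : PreservesFiniteLimits (evalFun J V) :=
  preservesFiniteLimits_of_natIso (coyonedaIsoEval J V)

theorem nonempty_HU_iso_rightDerived (V : C) (F : Sheaf J AddCommGrpCat.{v}) (n : ℕ) :
    Nonempty (AddCommGrpCat.of (CohSite.HU F n V) ≅ ((evalFun J V).rightDerived n).obj F) := by
  obtain ⟨e⟩ := nonempty_ext_iso_rightDerived (CohCx.freeSheaf J V) F n
  exact ⟨e ≪≫ ((injectiveResolution F).isoRightDerivedObj _ n) ≪≫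
    (HomologicalComplex.homologyFunctor _ _ n).mapIso
      ((NatIso.mapHomologicalComplex (coyonedaIsoEval J V) _).app _) ≪≫
    ((injectiveResolution F).isoRightDerivedObj _ n).symm⟩

end

end Groth.Agent.SpecSeq
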