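import Groth.Agent.Lead.Flasque.ExtCompute
import Mathlib.Algebra.Category.Grp.Abelian
import Mathlib.Algebra.Homology.ShortComplex.Ab
import Mathlib.CategoryTheory.Abelian.Injective.Resolution
import Mathlib.CategoryTheory.Abelian.RightDerived
import Mathlib.CategoryTheory.Preadditive.Yoneda.Limits
import Mathlib.Algebra.Homology.DerivedCategory.Ext.EnoughInjectives

/-!
`Extⁿ(X, -)` is naturally the `n`-th right derived functor of `Hom(X, -)`.
-/

set_option autoImplicit false

universe v u

open CategoryTheory CategoryTheory.Limits Opposite Abelian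

namespace Groth.Agent.SpecSeq

variable {A : Type u} [Category.{v} A] [Abelian A] [HasExt.{v} A] (X : A) {F : A}
  (R : InjectiveResolution F) (n : ℕ)

/-- `Hom(X, R)` -/
noncomputable abbrev homCx : CochainComplex AddCommGrpCat.{v} ℕ :=
  ((preadditiveCoyoneda.obj (op X)).mapHomologicalComplex (ComplexShape.up ℕ)).obj R.cocomplex

theorem homCx_cocycle (z : (homCx X R).cycles n) :
    (show X ⟶ R.cocomplex.X n from (homCx X R).iCycles n z) ≫ R.cocomplex.d n (n + 1) = 0 :=
  ConcreteCategory.congr_hom ((homCx X R).iCycles_d n (n + 1)) z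

theorem extMk_congr {f g : X ⟶ R.cocomplex.X n} (h : f = g) (hf : f ≫ R.cocomplex.d n (n + 1) = 0)
    (hg : g ≫ R.cocomplex.d n (n + 1) = 0) :
    R.extMk f (n + 1) rfl hf = R.extMk g (n + 1) rfl hg := by
  subst h
  rfl

/-- cycles to `Ext` -/
noncomputable def cyclesToExt : (homCx X R).cycles n ⟶ AddCommGrpCat.of (Ext X F n) :=
  AddCommGrpCat.ofHom (AddMonoidHom.mk'
    (fun z => R.extMk (X := X) ((homCx X R).iCycles n z) (n + 1) rfl (homCx_cocycle X R n z))
    fun a b => by
      refine (extMk_congr X R n ?_ _ (by rw [Preadditive.add_comp, homCx_cocycle X R n a,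
        homCx_cocycle X R n b, add_zero])).trans
        (R.add_extMk _ _ (n + 1) rfl (homCx_cocycle X R n a) (homCx_cocycle X R n b)).symm
      exact map_add _ a b)

theorem cyclesToExt_apply (z : (homCx X R).cycles n) :
    cyclesToExt X R n z = R.extMk (X := X) ((homCx X R).iCycles n z) (n + 1) rfl (homCx_cocycle X R n z) :=
  rfl

theorem epi_cyclesToExt : Epi (cyclesToExt X R n) := by
  rw [AddCommGrpCat.epi_iff_surjective]
  intro x
  obtain ⟨f, hf, rfl⟩ := R.extMk_surjective x (n + 1) rfl
  have h : (ShortComplex.mk ((homCx X R).iCycles n) ((homCx X R).d n (n + 1))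
      ((homCx X R).iCycles_d n (n + 1))).Exact :=
    ShortComplex.exact_of_f_is_kernel _ ((homCx X R).cyclesIsKernel n (n + 1) (by simp))
  obtain ⟨z, hz⟩ := (ShortComplex.ab_exact_iff _).1 h f hf
  refine ⟨z, ?_⟩
  rw [cyclesToExt_apply]
  congr 1

theorem cyclesToExt_eq_zero_iff (z : (homCx X R).cycles n) :
    cyclesToExt X R n z = 0 ↔ ∃ t, (homCx X R).toCycles ((ComplexShape.up ℕ).prev n) n t = z := by
  rw [cyclesToExt_apply]
  have hinj := (AddCommGrpCat.mono_iff_injective ((homCx X R).iCycles n)).1 inferInstance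
  cases n with
  | zero =>
    rw [Lead.Flasque.ExtCompute.extMk_eq_zero_iff_zero, CochainComplex.prev_nat_zero,
      show (homCx X R).toCycles 0 0 = 0 from by
        rw [← cancel_mono ((homCx X R).iCycles 0), HomologicalComplex.toCycles_i,
          HomologicalComplex.shape _ _ _ (by simp), zero_comp]]
    constructor
    · intro h
      exact ⟨0, hinj (by rw [map_zero, map_zero]; exact h.symm)⟩
    · rintro ⟨t, rfl⟩
      exact map_zero _
  | succ m =>
    rw [R.extMk_eq_zero_iff _ _ _ _ m rfl, CochainComplex.prev_nat_succ]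
    have key : ∀ t, (homCx X R).iCycles (m + 1) ((homCx X R).toCycles m (m + 1) t) =
        (show X ⟶ R.cocomplex.X m from t) ≫ R.cocomplex.d m (m + 1) := fun t =>
      ConcreteCategory.congr_hom ((homCx X R).toCycles_i m (m + 1)) t
    constructor
    · rintro ⟨g, hg⟩
      exact ⟨g, hinj ((key g).trans hg)⟩
    · rintro ⟨t, rfl⟩
      exact ⟨t, (key t).symm⟩

theorem exists_homologyIso :
    ∃ e : (homCx X R).homology n ≅ AddCommGrpCat.of (Ext X F n),
      (homCx X R).homologyπ n ≫ e.hom = cyclesToExt X R n := by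
  have w : (homCx X R).toCycles ((ComplexShape.up ℕ).prev n) n ≫ cyclesToExt X R n = 0 := by
    ext t
    exact (cyclesToExt_eq_zero_iff X R n _).2 ⟨t, rfl⟩
  have hS : (ShortComplex.mk _ _ w).Exact :=
    (ShortComplex.ab_exact_iff _).2 fun z hz => (cyclesToExt_eq_zero_iff X R n z).1 hz
  haveI := epi_cyclesToExt X R n
  let h₁ := (homCx X R).homologyIsCokernel _ n rfl
  exact ⟨h₁.coconePointUniqueUpToIso hS.gIsCokernel,
    IsColimit.comp_coconePointUniqueUpToIso_hom h₁ hS.gIsCokernel WalkingParallelPair.one⟩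

noncomputable def homologyExtIso : (homCx X R).homology n ≅ AddCommGrpCat.of (Ext X F n) :=
  (exists_homologyIso X R n).choose

theorem homologyπ_homologyExtIso : (homCx X R).homologyπ n ≫ (homologyExtIso X R n).hom = cyclesToExt X R n :=
  (exists_homologyIso X R n).choose_spec

theorem homologyExtIso_natural {G : A} {S : InjectiveResolution G} {g : F ⟶ G}
    (φ : InjectiveResolution.Hom R S g) :
    HomologicalComplex.homologyMap
        (((preadditiveCoyoneda.obj (op X)).mapHomologicalComplex (ComplexShape.up ℕ)).map φ.hom) n ≫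
      (homologyExtIso X S n).hom =
      (homologyExtIso X R n).hom ≫ ((extFunctor n).obj (op X)).map g := by
  rw [← cancel_epi ((homCx X R).homologyπ n), HomologicalComplex.homologyπ_naturality_assoc,
    homologyπ_homologyExtIso]
  refine Eq.trans ?_ ((congrArg (· ≫ ((extFunctor n).obj (op X)).map g)
    (homologyπ_homologyExtIso X R n)).symm.trans (Category.assoc _ _ _))
  ext z
  show S.extMk (X := X) _ (n + 1) rfl (homCx_cocycle X S n _) =
    (R.extMk (X := X) _ (n + 1) rfl (homCx_cocycle X R n z)).comp (Ext.mk₀ g) (add_zero n)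
  rw [InjectiveResolution.extMk_comp_mk₀ _ _ _ _ φ]
  exact extMk_congr X S n (ConcreteCategory.congr_hom (HomologicalComplex.cyclesMap_i
    (((preadditiveCoyoneda.obj (op X)).mapHomologicalComplex (ComplexShape.up ℕ)).map φ.hom) n) z) _ _

variable [EnoughInjectives A]

theorem paste {C : Type*} [Category C] {a b a' b' c c' : C} (eF : a ≅ a') (eG : b ≅ b') (x : a ⟶ b)
    (y : a' ⟶ b') (iF : a ⟶ c) (iG : b ⟶ c') (z : c ⟶ c') (h2 : x ≫ eG.hom = eF.hom ≫ y)
    (h1 : iF ≫ z = x ≫ iG) : y ≫ eG.inv ≫ iG = (eF.inv ≫ iF) ≫ z := by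
  rw [Category.assoc, h1, ← Category.assoc, ← Category.assoc]
  congr 1
  rw [Iso.eq_inv_comp, ← Category.assoc, Iso.comp_inv_eq, h2]

/-- `Extⁿ(X, -) ≅ Rⁿ Hom(X, -)` -/
noncomputable def extIsoRightDerived :
    (extFunctor n).obj (op X) ≅ (preadditiveCoyoneda.obj (op X)).rightDerived n :=
  NatIso.ofComponents
    (fun F => (homologyExtIso X (injectiveResolution F) n).symm ≪≫
      ((injectiveResolution F).isoRightDerivedObj (preadditiveCoyoneda.obj (op X)) n).symm)
    (fun {F G} g => by
      let φ : InjectiveResolution.Hom (injectiveResolution F) (injectiveResolution G) g :=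
        ⟨InjectiveResolution.desc g (injectiveResolution G) (injectiveResolution F),
          (InjectiveResolution.desc_commutes_zero g _ _).trans (by simp)⟩
      have h1 := InjectiveResolution.isoRightDerivedObj_inv_naturality g (injectiveResolution F)
        (injectiveResolution G) φ.hom (InjectiveResolution.desc_commutes_zero g _ _)
        (preadditiveCoyoneda.obj (op X)) n
      exact paste _ _ _ _ _ _ _ (homologyExtIso_natural X (injectiveResolution F) n φ) h1)

end Groth.Agent.SpecSeq
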