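import Groth.Agent.SpecSeq.Plus
import Groth.Agent.RFUnb.FinDim

/-!
The Grothendieck spectral sequence of a composite functor.
-/

set_option autoImplicit false

universe w w' w'' v v' v'' u u' u''

open CategoryTheory CategoryTheory.Limits
open scoped ZeroObject

namespace Groth.Agent.SpecSeq

section

variable {A : Type u} [Category.{v} A] [Abelian A] [HasDerivedCategory.{w} A] [EnoughInjectives A]
  {B : Type u'} [Category.{v'} B] [Abelian B] [HasDerivedCategory.{w'} B] (F : A ⥤ B) [F.Additive]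

instance isGE_single₀P (X : A) :
    (DerivedCategory.Plus.Qh.obj ((HomotopyCategory.Plus.quotient A).obj (RFPlus.single₀P X))).IsGE 0 := by
  rw [← DerivedCategory.Plus.isGE_ι_obj_iff]
  haveI : (DerivedCategory.Q.obj ((CochainComplex.singleFunctor A 0).obj X)).IsGE 0 := inferInstance
  exact DerivedCategory.TStructure.t.isGE_of_iso
    ((DerivedCategory.quotientCompQhIso A).app ((CochainComplex.singleFunctor A 0).obj X)).symm 0

theorem isZero_hobj_neg (X : A) (n : ℤ) (hn : n < 0) : IsZero (RFPlus.Hobj F n X) := by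
  haveI := RFPlus.isGE_obj F (DerivedCategory.Plus.Qh.obj
    ((HomotopyCategory.Plus.quotient A).obj (RFPlus.single₀P X))) 0
  exact DerivedCategory.Plus.isZero_homology_of_isGE _ 0 n hn

/-- `Hobj` in all degrees -/
theorem nonempty_hobj_iso_ite (n : ℤ) (X : A) :
    Nonempty (RFPlus.Hobj F n X ≅ (if 0 ≤ n then (F.rightDerived n.toNat).obj X else 0)) := by
  by_cases h : 0 ≤ n
  · obtain ⟨k, rfl⟩ := Int.eq_ofNat_of_zero_le h
    rw [if_pos h]
    exact RFPlus.nonempty_hobj_iso F X k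
  · rw [if_neg h]
    exact ⟨(isZero_hobj_neg F X n (by omega)).iso (isZero_zero _)⟩

theorem hobj_congr (n : ℤ) {X Y : A} (e : X ≅ Y) : Nonempty (RFPlus.Hobj F n X ≅ RFPlus.Hobj F n Y) :=
  ⟨(F.rightDerivedFunctorPlus ⋙ DerivedCategory.Plus.homologyFunctor B n).mapIso
    (DerivedCategory.Plus.Qh.mapIso ((HomotopyCategory.Plus.quotient A).mapIso
      (ObjectProperty.isoMk _ ((CochainComplex.singleFunctor A 0).mapIso e))))⟩

theorem isZero_hobj_of_isZero (n : ℤ) {X : A} (h : IsZero X) : IsZero (RFPlus.Hobj F n X) :=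
  letI := commShiftRF F
  haveI := isTriangulated_RF F
  (F.rightDerivedFunctorPlus ⋙ DerivedCategory.Plus.homologyFunctor B n).map_isZero
    (DerivedCategory.Plus.Qh.map_isZero ((HomotopyCategory.Plus.quotient A).map_isZero (by
      rw [IsZero.iff_id_eq_zero]
      apply ObjectProperty.hom_ext
      exact ((CochainComplex.singleFunctor A 0).map_isZero h).eq_of_src _ _)))

end

variable {C : Type u} [Category.{v} C] [Abelian C] [HasDerivedCategory.{w} C] [EnoughInjectives C]
  {C' : Type u'} [Category.{v'} C'] [Abelian C'] [HasDerivedCategory.{w'} C'] [EnoughInjectives C']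
  {C'' : Type u''} [Category.{v''} C''] [Abelian C''] [HasDerivedCategory.{w''} C'']
  (T : C ⥤ C') [T.Additive] (S : C' ⥤ C'') [S.Additive] [PreservesFiniteLimits S]

/-- `Hⁿ(RS (RT X)) ≅ Rⁿ(S ∘ T) X` when `T` maps injectives to `S`-acyclic objects. -/
theorem nonempty_comp_iso (hT : ∀ Q : C, Injective Q → RFPlus.Acyc S (T.obj Q)) (X : C) (n : ℤ) :
    Nonempty ((DerivedCategory.Plus.homologyFunctor C'' n).obj (S.rightDerivedFunctorPlus.obj
      (T.rightDerivedFunctorPlus.obj (DerivedCategory.Plus.Qh.obj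
        ((HomotopyCategory.Plus.quotient C).obj (RFPlus.single₀P X))))) ≅
      (if 0 ≤ n then ((T ⋙ S).rightDerived n.toNat).obj X else 0)) := by
  by_cases h : 0 ≤ n
  swap
  · rw [if_neg h]
    haveI := RFPlus.isGE_obj T (DerivedCategory.Plus.Qh.obj
      ((HomotopyCategory.Plus.quotient C).obj (RFPlus.single₀P X))) 0
    haveI := RFPlus.isGE_obj S (T.rightDerivedFunctorPlus.obj (DerivedCategory.Plus.Qh.obj
      ((HomotopyCategory.Plus.quotient C).obj (RFPlus.single₀P X)))) 0
    exact ⟨(DerivedCategory.Plus.isZero_homology_of_isGE _ 0 n (by omega)).iso (isZero_zero _)⟩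
  obtain ⟨i, rfl⟩ := Int.eq_ofNat_of_zero_le h
  rw [if_pos h]
  let R := injectiveResolution X
  let I : CochainComplex.Plus C := ⟨R.cochainComplex, ⟨0, inferInstance⟩⟩
  let φ : RFPlus.single₀P X ⟶ I := ObjectProperty.homMk R.ι'
  haveI := (RFPlus.isIso_Qh_map_iff φ).2 (inferInstanceAs (QuasiIso R.ι'))
  haveI := RFPlus.isIso_unit_of_injective T I (fun n => inferInstanceAs (Injective (R.cochainComplex.X n)))
  let K : CochainComplex.Plus C' := T.mapCochainComplexPlus.obj I
  haveI : K.obj.IsStrictlyGE 0 :=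
    inferInstanceAs (CochainComplex.IsStrictlyGE ((T.mapHomologicalComplex (ComplexShape.up ℤ)).obj R.cochainComplex) 0)
  have hK : ∀ (m : ℤ) (J : C'), Injective J → RFPlus.Acyc S (K.obj.X m ⊞ J) := fun m J hJ =>
    RFUnb.acyc_biprod S (hT _ (inferInstanceAs (Injective (R.cochainComplex.X m)))) (RFPlus.Acyc.of_injective S J)
  haveI hu : IsIso (S.rightDerivedFunctorPlusUnit.app ((HomotopyCategory.Plus.quotient C').obj K)) :=
    RFPlus.isIso_unit_of_class S (RFPlus.Acyc S) (fun e h => h.of_iso e) K 0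
      (fun J hJ _ => hK 0 J hJ)
      (fun m _ J hJ Sq hSq h1 e =>
        RFPlus.acyc_shortExact S Sq hSq h1 ((hK m J hJ).of_iso e.symm))
  exact ⟨(S.rightDerivedFunctorPlus ⋙ DerivedCategory.Plus.homologyFunctor C'' i).mapIso
      (T.rightDerivedFunctorPlus.mapIso
        (asIso (DerivedCategory.Plus.Qh.map ((HomotopyCategory.Plus.quotient C).map φ))) ≪≫
      (asIso (T.rightDerivedFunctorPlusUnit.app ((HomotopyCategory.Plus.quotient C).obj I))).symm) ≪≫
    (DerivedCategory.Plus.homologyFunctor C'' i).mapIso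
      (@asIso _ _ _ _ (S.rightDerivedFunctorPlusUnit.app ((HomotopyCategory.Plus.quotient C').obj K)) hu).symm ≪≫
    (DerivedCategory.homologyFunctor C'' i).mapIso
      ((DerivedCategory.quotientCompQhIso C'').app
        (((T ⋙ S).mapHomologicalComplex (ComplexShape.up ℤ)).obj R.cochainComplex)) ≪≫
    (DerivedCategory.homologyFunctorFactors C'' i).app _ ≪≫
    (HomologicalComplex.homologyFunctor C'' _ (i : ℤ)).mapIso (RFPlus.mapExtendIso (T ⋙ S) R.cocomplex) ≪≫
    HomologicalComplex.extendHomologyIso _ ComplexShape.embeddingUpNat (j := i) (by simp) ≪≫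
    (R.isoRightDerivedObj (T ⋙ S) i).symm⟩

/-- The Grothendieck spectral sequence. -/
theorem exists_grothendieck (hT : ∀ Q : C, Injective Q → RFPlus.Acyc S (T.obj Q)) (X : C) :
    ∃ (E : E₂CohomologicalSpectralSequence C'')
      (a : SpSeq.Abutment E (fun n : ℤ => if 0 ≤ n then ((T ⋙ S).rightDerived n.toNat).obj X else 0)),
      (∀ n, a.IsFinite n) ∧ SpSeq.IsBounded E ∧
      ∀ p q : ℤ, Nonempty ((E.page 2 le_rfl).X (p, q) ≅
        (if 0 ≤ p ∧ 0 ≤ q then (S.rightDerived p.toNat).obj ((T.rightDerived q.toNat).obj X) else 0)) := by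
  let Z := T.rightDerivedFunctorPlus.obj (DerivedCategory.Plus.Qh.obj
    ((HomotopyCategory.Plus.quotient C).obj (RFPlus.single₀P X)))
  haveI : Z.IsGE 0 := RFPlus.isGE_obj T _ 0
  obtain ⟨E, a, h1, h2, h3⟩ := exists_spectralSequence_plus S Z 0
    (fun n : ℤ => if 0 ≤ n then ((T ⋙ S).rightDerived n.toNat).obj X else 0)
    (fun n => nonempty_comp_iso T S hT X n)
  refine ⟨E, a, h1, h2, fun p q => ?_⟩
  obtain ⟨e⟩ := h3 p q
  by_cases hq : 0 ≤ q
  · obtain ⟨eT⟩ := nonempty_hobj_iso_ite T q X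
    obtain ⟨e1⟩ := hobj_congr S p (eT ≪≫ eqToIso (if_pos hq))
    obtain ⟨eS⟩ := nonempty_hobj_iso_ite S p ((T.rightDerived q.toNat).obj X)
    refine ⟨e ≪≫ e1 ≪≫ eS ≪≫ eqToIso ?_⟩
    simp only [hq, and_true]
  · rw [if_neg (fun h => hq h.2)]
    exact ⟨e ≪≫ (isZero_hobj_of_isZero S p (isZero_hobj_neg T X q (by omega))).iso (isZero_zero _)⟩

end Groth.Agent.SpecSeq
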