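import Mathlib

/-!
The spectral object in an abelian category obtained by applying a homological functor to a spectral
object in a triangulated category.
-/

set_option autoImplicit false

open CategoryTheory CategoryTheory.Limits CategoryTheory.Pretriangulated ComposableArrows

universe v₁ v₂ v₃ u₁ u₂ u₃

namespace Groth.Agent.SpecSeq

variable {D : Type u₁} [Category.{v₁} D] [HasZeroObject D] [HasShift D ℤ] [Preadditive D]
  [∀ n : ℤ, (shiftFunctor D n).Additive] [Pretriangulated D]
  {ι : Type u₂} [Category.{v₂} ι] {B : Type u₃} [Category.{v₃} B] [Abelian B]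

/-- apply a homological functor to a spectral object -/
noncomputable def ofTriangulated (X : Triangulated.SpectralObject D ι) (G : D ⥤ B) [G.IsHomological]
    [G.ShiftSequence ℤ] : Abelian.SpectralObject B ι where
  H n := X.ω₁ ⋙ G.shift n
  δ' n₀ n₁ h :=
    { app := fun Dg => G.homologySequenceδ (X.ω₂.obj Dg) n₀ n₁ h
      naturality := fun _ _ φ => G.homologySequenceδ_naturality _ _ (X.ω₂.map φ) n₀ n₁ h }
  exact₁' n₀ n₁ h Dg := (G.homologySequence_exact₁ _ (X.ω₂_obj_distinguished Dg) n₀ n₁ h).exact_toComposableArrows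
  exact₂' n Dg := (G.homologySequence_exact₂ _ (X.ω₂_obj_distinguished Dg) n).exact_toComposableArrows
  exact₃' n₀ n₁ h Dg := (G.homologySequence_exact₃ _ (X.ω₂_obj_distinguished Dg) n₀ n₁ h).exact_toComposableArrows

theorem ofTriangulated_H_obj (X : Triangulated.SpectralObject D ι) (G : D ⥤ B) [G.IsHomological]
    [G.ShiftSequence ℤ] (n : ℤ) (f : ComposableArrows ι 1) :
    ((ofTriangulated X G).H n).obj f = (G.shift n).obj (X.ω₁.obj f) := rfl

end Groth.Agent.SpecSeq
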