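import Groth.Agent.DerPlus.LongExact

/-!
The bounded below right derived functor is triangulated.
-/

set_option autoImplicit false

universe w w' v v' u u'

open CategoryTheory CategoryTheory.Limits CategoryTheory.Pretriangulated

namespace Groth.Agent.SpecSeq

open DerPlus.LongExact

variable {C : Type u} [Category.{v} C] [Abelian C] [HasDerivedCategory.{w} C] [EnoughInjectives C]
  {D : Type u'} [Category.{v'} D] [Abelian D] [HasDerivedCategory.{w'} D]

instance full_Φ : (Φ C).Full := ⟨fun a => Φ_map_surjective a⟩

omit [EnoughInjectives C] in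
theorem Φ_map_injective {K L : HomotopyCategory.Plus (InjectiveObject C)} :
    Function.Injective ((Φ C).map : (K ⟶ L) → _) := by
  obtain ⟨L₀, rfl⟩ := HomotopyCategory.Plus.quotient_obj_surjective L
  intro f g h
  have hinj : CochainComplex.IsKInjective
      (((InjectiveObject.ι C).mapHomologicalComplex (.up ℤ)).obj L₀.obj) := inferInstance
  exact (InjectiveObject.ι C).mapHomotopyCategoryPlus.map_injective
    ((DerivedCategory.Plus.Qh_map_bijective_of_isKInjective
      ((InjectiveObject.ι C).mapHomotopyCategoryPlus.obj K)
      ((InjectiveObject.ι C).mapHomotopyCategoryPlus.obj ((HomotopyCategory.Plus.quotient _).obj L₀))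
      hinj).1 h)

instance faithful_Φ : (Φ C).Faithful := ⟨fun h => Φ_map_injective h⟩

instance isEquivalence_Φ : (Φ C).IsEquivalence where

variable (T : C ⥤ D) [T.Additive]

/-- commutation with shifts of the derived functor -/
@[instance_reducible]
noncomputable def commShiftRF : T.rightDerivedFunctorPlus.CommShift ℤ :=
  haveI : (Φ C).IsLocalization (MorphismProperty.isomorphisms _) :=
    Functor.IsLocalization.of_isEquivalence _ _ (fun _ _ _ h => h)
  letI : Localization.Lifting (Φ C) (MorphismProperty.isomorphisms _) (G T) T.rightDerivedFunctorPlus :=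
    ⟨(compIso T).symm⟩
  Functor.commShiftOfLocalization (Φ C) (MorphismProperty.isomorphisms _) ℤ (G T) T.rightDerivedFunctorPlus

theorem isTriangulated_RF :
    letI := commShiftRF T
    T.rightDerivedFunctorPlus.IsTriangulated := by
  letI := commShiftRF T
  haveI : (Φ C).IsLocalization (MorphismProperty.isomorphisms _) :=
    Functor.IsLocalization.of_isEquivalence _ _ (fun _ _ _ h => h)
  letI : Localization.Lifting (Φ C) (MorphismProperty.isomorphisms _) (G T) T.rightDerivedFunctorPlus :=
    ⟨(compIso T).symm⟩
  haveI : NatTrans.CommShift (Localization.Lifting.iso (Φ C) (MorphismProperty.isomorphisms _) (G T)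
      T.rightDerivedFunctorPlus).hom ℤ :=
    NatTrans.commShift_iso_hom_of_localization (Φ C) (MorphismProperty.isomorphisms _) ℤ (G T)
      T.rightDerivedFunctorPlus
  exact Functor.isTriangulated_of_precomp_iso
    (Localization.Lifting.iso (Φ C) (MorphismProperty.isomorphisms _) (G T) T.rightDerivedFunctorPlus)

end Groth.Agent.SpecSeq
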