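import Groth.Agent.SpecSeq.SpectralObject
import Groth.Agent.SpecSeq.TriRF
import Groth.Agent.SpecSeq.OfTriangulated
import Groth.Agent.RFPlus.Acyc

/-!
The spectral sequence `Rᵖ S (Hᵍ X) ⟹ Hᵖ⁺ᵍ (RS X)` for `X` in the bounded below derived category.
-/

set_option autoImplicit false

universe w w' v v' u u'

open CategoryTheory CategoryTheory.Limits CategoryTheory.Pretriangulated ComposableArrows

namespace Groth.Agent.SpecSeq

variable {A : Type u} [Category.{v} A] [Abelian A] [HasDerivedCategory.{w} A] [EnoughInjectives A]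
  {B : Type u'} [Category.{v'} B] [Abelian B] [HasDerivedCategory.{w'} B] (S : A ⥤ B) [S.Additive]

omit [EnoughInjectives A] in
/-- truncations do not change the cohomology in the middle degree -/
theorem nonempty_homology_trunc_iso (X : DerivedCategory.Plus A) (q : ℤ) :
    Nonempty ((DerivedCategory.Plus.homologyFunctor A q).obj
      ((DerivedCategory.Plus.TStructure.t.truncGE q).obj
        ((DerivedCategory.Plus.TStructure.t.truncLT (q + 1)).obj X)) ≅
      (DerivedCategory.Plus.homologyFunctor A q).obj X) := by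
  let G := DerivedCategory.Plus.homologyFunctor A 0
  let t := DerivedCategory.Plus.TStructure.t (C := A)
  have eG : ∀ n : ℤ, Nonempty (G.shift n ≅ DerivedCategory.Plus.homologyFunctor A n) :=
    fun n => ⟨Iso.refl _⟩
  have z : ∀ (Y : DerivedCategory.Plus A) (n i : ℤ) [Y.IsGE n], i < n → IsZero ((G.shift i).obj Y) :=
    fun Y n i _ hi => (DerivedCategory.Plus.isZero_homology_of_isGE Y n i hi).of_iso ((eG i).some.app Y)
  have z' : ∀ (Y : DerivedCategory.Plus A) (n i : ℤ) [Y.IsLE n], n < i → IsZero ((G.shift i).obj Y) :=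
    fun Y n i _ hi => (DerivedCategory.Plus.isZero_homology_of_isLE Y n i hi).of_iso ((eG i).some.app Y)
  let T := (t.triangleLTGE (q + 1)).obj X
  have hT := t.triangleLTGE_distinguished (q + 1) X
  haveI : T.obj₃.IsGE (q + 1) := inferInstanceAs (t.IsGE ((t.truncGE (q + 1)).obj X) (q + 1))
  haveI : Epi ((G.shift q).map T.mor₁) :=
    (G.homologySequence_exact₂ T hT q).epi_f ((z T.obj₃ (q + 1) q (by omega)).eq_of_tgt _ _)
  haveI : Mono ((G.shift q).map T.mor₁) :=
    (G.homologySequence_exact₁ T hT (q - 1) q (by omega)).mono_g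
      ((z T.obj₃ (q + 1) (q - 1) (by omega)).eq_of_src _ _)
  haveI hi₁ : IsIso ((G.shift q).map T.mor₁) := isIso_of_mono_of_epi _
  let T' := (t.triangleLTGE q).obj ((t.truncLT (q + 1)).obj X)
  have hT' := t.triangleLTGE_distinguished q ((t.truncLT (q + 1)).obj X)
  haveI : T'.obj₁.IsLE (q - 1) :=
    inferInstanceAs (t.IsLE ((t.truncLT q).obj ((t.truncLT (q + 1)).obj X)) (q - 1))
  haveI : Epi ((G.shift q).map T'.mor₂) :=
    (G.homologySequence_exact₃ T' hT' q (q + 1) rfl).epi_f
      ((z' T'.obj₁ (q - 1) (q + 1) (by omega)).eq_of_tgt _ _)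
  haveI : Mono ((G.shift q).map T'.mor₂) :=
    (G.homologySequence_exact₂ T' hT' q).mono_g ((z' T'.obj₁ (q - 1) q (by omega)).eq_of_src _ _)
  haveI := isIso_of_mono_of_epi ((G.shift q).map T'.mor₂)
  exact ⟨((eG q).some.app _).symm ≪≫ (asIso ((G.shift q).map T'.mor₂)).symm ≪≫
    (@asIso _ _ _ _ _ hi₁) ≪≫ (eG q).some.app _⟩

omit [EnoughInjectives A] in
/-- an object concentrated in one degree is a shift of a single object -/
theorem nonempty_iso_shift_single (Y : DerivedCategory.Plus A) (q : ℤ) [Y.IsGE q] [Y.IsLE q] :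
    Nonempty (Y ≅ (DerivedCategory.Plus.Qh.obj ((HomotopyCategory.Plus.quotient A).obj
      (RFPlus.single₀P ((DerivedCategory.Plus.homologyFunctor A q).obj Y))))⟦-q⟧) := by
  obtain ⟨M, ⟨e⟩⟩ := DerivedCategory.exists_iso_singleFunctor_obj_of_isGE_of_isLE
    (DerivedCategory.Plus.ι.obj Y) q
  let M' := (DerivedCategory.Plus.homologyFunctor A q).obj Y
  let eM : M' ≅ M := (DerivedCategory.homologyFunctor A q).mapIso e ≪≫
    (DerivedCategory.homologyFunctor A q).mapIso ((DerivedCategory.singleFunctorIsoCompQ A q).app M) ≪≫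
    (DerivedCategory.homologyFunctorFactors A q).app _ ≪≫
    (HomologicalComplex.homologyFunctorSingleIso A (ComplexShape.up ℤ) q).app M
  refine ⟨DerivedCategory.Plus.ι.preimageIso ?_⟩
  refine e ≪≫ (DerivedCategory.singleFunctor A q).mapIso eM.symm ≪≫
    (((DerivedCategory.singleFunctors A).shiftIso (-q) q 0 (by omega)).app M').symm ≪≫
    (shiftFunctor (DerivedCategory A) (-q)).mapIso ?_ ≪≫
    ((DerivedCategory.Plus.ι (C := A)).commShiftIso (-q)).symm.app _
  exact (DerivedCategory.singleFunctorIsoCompQ A 0).app M' ≪≫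
    ((DerivedCategory.quotientCompQhIso A).app ((CochainComplex.singleFunctor A 0).obj M')).symm

theorem nonempty_homology_RF_iso (Y : DerivedCategory.Plus A) (q p : ℤ) [Y.IsGE q] [Y.IsLE q] :
    Nonempty ((DerivedCategory.Plus.homologyFunctor B (p + q)).obj (S.rightDerivedFunctorPlus.obj Y) ≅
      RFPlus.Hobj S p ((DerivedCategory.Plus.homologyFunctor A q).obj Y)) := by
  obtain ⟨e⟩ := nonempty_iso_shift_single Y q
  letI := commShiftRF S
  let G := DerivedCategory.homologyFunctor B 0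
  exact ⟨(DerivedCategory.Plus.homologyFunctor B (p + q)).mapIso
      (S.rightDerivedFunctorPlus.mapIso e ≪≫ (S.rightDerivedFunctorPlus.commShiftIso (-q)).app _) ≪≫
    (DerivedCategory.homologyFunctor B (p + q)).mapIso
      ((DerivedCategory.Plus.ι.commShiftIso (-q)).app _) ≪≫
    (G.shiftIso (-q) (p + q) p (by omega)).app _⟩

/-- The spectral sequence of `RS` at a bounded below object. -/
theorem exists_spectralSequence_plus (X : DerivedCategory.Plus A) (a : ℤ) [X.IsGE a] (H : ℤ → B)
    (eH : ∀ n, Nonempty ((DerivedCategory.Plus.homologyFunctor B n).obj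
      (S.rightDerivedFunctorPlus.obj X) ≅ H n)) :
    ∃ (E : E₂CohomologicalSpectralSequence B) (ab : SpSeq.Abutment E H),
      (∀ n, ab.IsFinite n) ∧ SpSeq.IsBounded E ∧
      ∀ p q : ℤ, Nonempty ((E.page 2 le_rfl).X (p, q) ≅
        RFPlus.Hobj S p ((DerivedCategory.Plus.homologyFunctor A q).obj X)) := by
  let t := DerivedCategory.Plus.TStructure.t (C := A)
  letI := commShiftRF S
  haveI := isTriangulated_RF S
  let Fc := S.rightDerivedFunctorPlus ⋙ DerivedCategory.Plus.ι
  let Y := ofTriangulated ((t.spectralObject X).mapTriangulatedFunctor Fc)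
    (DerivedCategory.homologyFunctor B 0)
  have eY : ∀ (n : ℤ) {i j : EInt} (h : i ≤ j), Nonempty ((Y.H n).obj (mk₁ (homOfLE h)) ≅
      (DerivedCategory.Plus.homologyFunctor B n).obj (S.rightDerivedFunctorPlus.obj
        ((t.eTruncGE.obj i).obj ((t.eTruncLT.obj j).obj X)))) := fun n i j h => ⟨Iso.refl _⟩
  have hz : ∀ (n : ℤ) {i j : EInt} (h : i ≤ j),
      IsZero ((t.eTruncGE.obj i).obj ((t.eTruncLT.obj j).obj X)) ∨
        t.IsGE ((t.eTruncGE.obj i).obj ((t.eTruncLT.obj j).obj X)) (n + 1) →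
      IsZero ((Y.H n).obj (mk₁ (homOfLE h))) := by
    rintro n i j h (hh | hh)
    · exact ((DerivedCategory.Plus.homologyFunctor B n).map_isZero
        (S.rightDerivedFunctorPlus.map_isZero hh)).of_iso (eY n h).some
    · haveI : ((t.eTruncGE.obj i).obj ((t.eTruncLT.obj j).obj X)).IsGE (n + 1) := hh
      haveI := RFPlus.isGE_obj S ((t.eTruncGE.obj i).obj ((t.eTruncLT.obj j).obj X)) (n + 1)
      exact (DerivedCategory.Plus.isZero_homology_of_isGE _ (n + 1) n (by omega)).of_iso (eY n h).some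
  obtain ⟨E, ab, h1, h2, h3⟩ := exists_spectralSequence (Y := Y) a
    (fun i j h hj n => hz n h (Or.inl ((t.eTruncGE.obj i).map_isZero (t.isZero_eTruncLT_obj_obj X a j hj))))
    (fun n => n + 1)
    (fun n i j h hi => hz n h (Or.inr (t.isGE_eTruncGE_obj_obj (n + 1) i hi _)))
    H (fun n => (eY n bot_le).some ≪≫ (eH n).some)
  refine ⟨E, ab, h1, h2, fun p q => ?_⟩
  let Z := (t.truncGE q).obj ((t.truncLT (q + 1)).obj X)
  haveI : Z.IsGE q := inferInstanceAs (t.IsGE ((t.truncGE q).obj _) q)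
  haveI : t.IsLE ((t.truncLT (q + 1)).obj X) q := t.isLE_of_le _ (q + 1 - 1) q (by omega)
  haveI : Z.IsLE q := inferInstanceAs (t.IsLE ((t.truncGE q).obj _) q)
  obtain ⟨e₁⟩ := nonempty_homology_RF_iso S Z q p
  obtain ⟨e₂⟩ := nonempty_homology_trunc_iso X q
  exact ⟨(h3 p q).some ≪≫ (eY (p + q) _).some ≪≫ e₁ ≪≫
    (S.rightDerivedFunctorPlus ⋙ DerivedCategory.Plus.homologyFunctor B p).mapIso
      (DerivedCategory.Plus.Qh.mapIso ((HomotopyCategory.Plus.quotient A).mapIso
        (ObjectProperty.isoMk _ ((CochainComplex.singleFunctor A 0).mapIso e₂))))⟩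

end Groth.Agent.SpecSeq
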