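import Mathlib
import Groth.Prelude.Def_SpSeq

/-!
The spectral sequence of a bounded spectral object indexed by `EInt`, with its abutment.
-/

set_option autoImplicit false

universe v u

open CategoryTheory CategoryTheory.Limits CategoryTheory.Abelian ComposableArrows

namespace Groth.Agent.SpecSeq

variable {C : Type u} [Category.{v} C] [Abelian C]

section Transport

variable {r₀ : ℤ} {E : CohomologicalSpectralSequence C r₀} {H H' : ℤ → C}

/-- transport of a subobject along an isomorphism -/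
noncomputable def pushFil (e : ∀ n, H n ≅ H' n) (n : ℤ) (S : Subobject (H n)) : Subobject (H' n) :=
  Subobject.mk (S.arrow ≫ (e n).hom)

theorem pushFil_le (e : ∀ n, H n ≅ H' n) (n : ℤ) {S T : Subobject (H n)} (h : S ≤ T) :
    pushFil e n S ≤ pushFil e n T :=
  Subobject.mk_le_mk_of_comm (S.ofLE T h) (by simp)

/-- transport of abutment data along isomorphisms -/
noncomputable def transportAbutment (a : SpSeq.Abutment E H) (e : ∀ n, H n ≅ H' n) :
    SpSeq.Abutment E H' where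
  fil n p := pushFil e n (a.fil n p)
  anti n _ _ h := pushFil_le e n (a.anti n h)
  rk := a.rk
  stat := a.stat
  β pq := a.β pq ≪≫ cokernel.mapIso _ _ (Subobject.underlyingIso _).symm (Subobject.underlyingIso _).symm (by
    simp only [Iso.symm_hom]
    rw [← cancel_mono (pushFil e _ (a.fil _ pq.1)).arrow, Category.assoc, Category.assoc, Subobject.ofLE_arrow]
    simp [pushFil])

theorem isFinite_transportAbutment (a : SpSeq.Abutment E H) (e : ∀ n, H n ≅ H' n) (n : ℤ)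
    (h : a.IsFinite n) : (transportAbutment a e).IsFinite n := by
  obtain ⟨⟨i, hi⟩, j, hj⟩ := h
  refine ⟨⟨i, ?_⟩, j, ?_⟩
  · show pushFil e n (a.fil n i) = ⊤
    change a.fil n i = ⊤ at hi
    rw [hi]
    exact Subobject.mk_eq_top_of_isIso _
  · show pushFil e n (a.fil n j) = ⊥
    change a.fil n j = ⊥ at hj
    rw [hj]
    exact (Subobject.mk_eq_bot_iff_zero).2 (by simp)

end Transport

section Object

variable (Y : Abelian.SpectralObject C EInt)

/-- `H^n` of the whole spectral object -/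
noncomputable abbrev total (n : ℤ) : C := (Y.H n).obj (mk₁ (homOfLE (bot_le : (⊥ : EInt) ≤ ⊤)))

/-- the opcycles whose image is a step of the filtration on the total object -/
noncomputable abbrev stepObj (n j : ℤ) : C :=
  Y.opcycles (homOfLE (bot_le : (⊥ : EInt) ≤ (j : EInt))) (homOfLE (le_top : (j : EInt) ≤ ⊤)) n

/-- inclusion of a step of the filtration -/
noncomputable abbrev stepHom (n j : ℤ) : stepObj Y n j ⟶ total Y n :=
  Y.fromOpcycles (homOfLE (bot_le : (⊥ : EInt) ≤ (j : EInt))) (homOfLE (le_top : (j : EInt) ≤ ⊤))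
    (homOfLE (bot_le : (⊥ : EInt) ≤ ⊤)) rfl n

theorem stepHom_fac (n : ℤ) {i j : ℤ} (h : i ≤ j) :
    ∃ φ : stepObj Y n i ⟶ stepObj Y n j, φ ≫ stepHom Y n j = stepHom Y n i := by
  have hij : (i : EInt) ≤ (j : EInt) := WithBotTop.coe_le_coe.2 h
  refine ⟨Y.opcyclesMap _ _ _ _ (threeδ₂Toδ₁ (homOfLE (bot_le : (⊥ : EInt) ≤ (i : EInt))) (homOfLE hij)
    (homOfLE (le_top : (j : EInt) ≤ ⊤)) (homOfLE bot_le) (homOfLE le_top) rfl rfl) n, ?_⟩
  rw [Y.opcyclesMap_fromOpcycles _ _ _ _ (homOfLE (bot_le : (⊥ : EInt) ≤ ⊤)) rfl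
      (homOfLE (bot_le : (⊥ : EInt) ≤ ⊤)) rfl _ (𝟙 _) n (by cat_disch) (by cat_disch)]
  simp

/-- the filtration on the total object -/
noncomputable def filT (n p : ℤ) : Subobject (total Y n) := Subobject.mk (stepHom Y n (n - p + 1))

theorem filT_anti (n : ℤ) : Antitone (filT Y n) := fun p q h => by
  obtain ⟨φ, hφ⟩ := stepHom_fac Y n (show n - q + 1 ≤ n - p + 1 by omega)
  exact Subobject.mk_le_mk_of_comm φ hφ

/-- the graded pieces are the terms at infinity -/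
noncomputable def grIso (n p : ℤ) {i₁ i₂ : EInt} (h₁ : i₁ = ((n - (p + 1) + 1 : ℤ) : EInt))
    (h₂ : i₂ = ((n - p + 1 : ℤ) : EInt)) (h₁₂ : i₁ ≤ i₂) :
    Y.E (homOfLE (bot_le : (⊥ : EInt) ≤ i₁)) (homOfLE h₁₂) (homOfLE (le_top : i₂ ≤ ⊤)) (n - 1) n (n + 1) ≅
      SpSeq.grPiece (filT Y n) (filT_anti Y n) p := by
  subst h₁ h₂
  let S := Y.shortComplexOpcyclesThreeδ₂Toδ₁ (homOfLE (bot_le : (⊥ : EInt) ≤ ((n - (p + 1) + 1 : ℤ) : EInt)))
    (homOfLE h₁₂) (homOfLE le_top) (homOfLE bot_le) (homOfLE le_top) rfl rfl (n - 1) n (n + 1)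
  have hS : S.ShortExact := Y.shortComplexOpcyclesThreeδ₂Toδ₁_shortExact ..
  have hf : S.f ≫ stepHom Y n (n - p + 1) = stepHom Y n (n - (p + 1) + 1) := by
    show Y.opcyclesMap _ _ _ _ _ n ≫ _ = _
    rw [Y.opcyclesMap_fromOpcycles _ _ _ _ (homOfLE (bot_le : (⊥ : EInt) ≤ ⊤)) rfl
      (homOfLE (bot_le : (⊥ : EInt) ≤ ⊤)) rfl _ (𝟙 _) n (by cat_disch) (by cat_disch)]
    simp
  refine (cokernelIsCokernel S.f |>.coconePointUniqueUpToIso hS.gIsCokernel).symm ≪≫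
    cokernel.mapIso S.f _ (Subobject.underlyingIso (stepHom Y n (n - (p + 1) + 1))).symm
      (Subobject.underlyingIso (stepHom Y n (n - p + 1))).symm ?_
  simp only [Iso.symm_hom]
  rw [← cancel_mono (filT Y n p).arrow, Category.assoc, Category.assoc]
  simp only [filT, Subobject.ofLE_arrow]
  exact (congrArg (S.f ≫ ·) (Subobject.underlyingIso_arrow (stepHom Y n (n - p + 1)))).trans
    (hf.trans (Subobject.underlyingIso_arrow (stepHom Y n (n - (p + 1) + 1))).symm)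

variable {Y}

theorem fst_iso (a : ℤ) (ha : ∀ (i j : EInt) (h : i ≤ j), j ≤ (a : EInt) → ∀ n, IsZero ((Y.H n).obj (mk₁ (homOfLE h))))
    (n : ℤ) (b : ℤ) (hb : ∀ (i j : EInt) (h : i ≤ j), (b : EInt) ≤ i → IsZero ((Y.H (n - 1)).obj (mk₁ (homOfLE h))))
    {i₀ i₁ i₂ i₃ : EInt} (h₀₁ : i₀ ≤ i₁) (h₁₂ : i₁ ≤ i₂) (h₂₃ : i₂ ≤ i₃) (h₀ : i₀ ≤ (a : EInt))
    (h₃ : (b : EInt) ≤ i₃) :
    Nonempty (Y.E (homOfLE h₀₁) (homOfLE h₁₂) (homOfLE h₂₃) (n - 1) n (n + 1) ≅
      Y.E (homOfLE (bot_le : (⊥ : EInt) ≤ i₁)) (homOfLE h₁₂) (homOfLE (le_top : i₂ ≤ ⊤)) (n - 1) n (n + 1)) :=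
  ⟨Y.isoMapFourδ₄Toδ₃' i₀ i₁ i₂ i₃ ⊤ h₀₁ h₁₂ h₂₃ le_top (n - 1) n (n + 1) (hb _ _ _ h₃) ≪≫
    (Y.isoMapFourδ₁Toδ₀' ⊥ i₀ i₁ i₂ ⊤ bot_le h₀₁ h₁₂ le_top (n - 1) n (n + 1) (ha _ _ _ h₀ _)).symm⟩

theorem exists_abutment (a : ℤ)
    (ha : ∀ (i j : EInt) (h : i ≤ j), j ≤ (a : EInt) → ∀ n, IsZero ((Y.H n).obj (mk₁ (homOfLE h))))
    (b : ℤ → ℤ)
    (hb : ∀ (n : ℤ) (i j : EInt) (h : i ≤ j), (b n : EInt) ≤ i → IsZero ((Y.H n).obj (mk₁ (homOfLE h)))) :
    ∃ ab : SpSeq.Abutment Y.E₂SpectralSequence (total Y), (∀ n, ab.IsFinite n) ∧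
      SpSeq.IsBounded Y.E₂SpectralSequence := by
  classical
  have hz : ∀ (r : ℤ) (hr : 2 ≤ r) (p q : ℤ), (q + 1 ≤ a ∨ b (p + q) ≤ q) →
      IsZero ((Y.E₂SpectralSequence.page r hr).X (p, q)) := fun r hr p q h => by
    refine Y.isZero_spectralSequence_page_X_of_isZero_H' _ r hr (p, q) ?_
    rcases h with h | h
    · exact ha _ _ _ (WithBotTop.coe_le_coe.2 h) _
    · exact hb _ _ _ _ (WithBotTop.coe_le_coe.2 h)
  let rk : ℤ × ℤ → ℤ := fun pq => max 2 (max (pq.2 + 2 - a) (max (b (pq.1 + pq.2 - 1) - pq.2 + 1)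
    (b (pq.1 + pq.2) - pq.2 + 1)))
  have stat : ∀ pq, SpSeq.StationaryAt Y.E₂SpectralSequence pq (rk pq) := fun ⟨p, q⟩ => by
    refine ⟨le_max_left _ _, fun r hr hle => ?_⟩
    have h1 : q + 2 - a ≤ r ∧ b (p + q - 1) - q + 1 ≤ r := by
      constructor <;> simp only [rk] at hle <;> omega
    constructor
    · exact (hz r hr (p - r) (q - (1 - r)) (Or.inr (by
        rw [show p - r + (q - (1 - r)) = p + q - 1 by ring]; omega))).eq_of_src _ _
    · exact (hz r hr (p + r) (q + (1 - r)) (Or.inl (by omega))).eq_of_tgt _ _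
  have hpage : ∀ pq : ℤ × ℤ, Nonempty ((Y.E₂SpectralSequence.page (rk pq) (stat pq).1).X pq ≅
      SpSeq.grPiece (filT Y (pq.1 + pq.2)) (filT_anti Y _) pq.1) := fun ⟨p, q⟩ => by
    have h1 : q + 2 - a ≤ rk (p, q) ∧ b (p + q - 1) - q + 1 ≤ rk (p, q) := by
      constructor <;> simp only [rk] <;> omega
    have hq : (q : EInt) ≤ ((q + 1 : ℤ) : EInt) := WithBotTop.coe_le_coe.2 (by omega)
    let e₁ := Y.spectralSequencePageXIso SpectralObject.coreE₂Cohomological (rk (p, q)) (stat (p, q)).1 (p, q)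
      ((q - rk (p, q) + 2 : ℤ) : EInt) (q : EInt) ((q + 1 : ℤ) : EInt) ((q + rk (p, q) - 1 : ℤ) : EInt)
      rfl rfl rfl rfl (p + q - 1) (p + q) (p + q + 1) rfl
    obtain ⟨e₂⟩ := fst_iso (Y := Y) a ha (p + q) (b (p + q - 1)) (hb _)
      (i₀ := ((q - rk (p, q) + 2 : ℤ) : EInt)) (i₁ := (q : EInt)) (i₂ := ((q + 1 : ℤ) : EInt))
      (i₃ := ((q + rk (p, q) - 1 : ℤ) : EInt))
      (WithBotTop.coe_le_coe.2 (by have := (stat (p, q)).1; omega)) hq
      (WithBotTop.coe_le_coe.2 (by have := (stat (p, q)).1; omega))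
      (WithBotTop.coe_le_coe.2 (by omega)) (WithBotTop.coe_le_coe.2 (by omega))
    exact ⟨e₁ ≪≫ e₂ ≪≫ grIso Y (p + q) p (by congr 1; ring) (by congr 1; ring) hq⟩
  let ab : SpSeq.Abutment Y.E₂SpectralSequence (total Y) :=
    { fil := filT Y, anti := filT_anti Y, rk := rk, stat := stat, β := fun pq => (hpage pq).some }
  refine ⟨ab, fun n => ⟨⟨n - max (b n) a + 1, ?_⟩, n - a + 1, ?_⟩, fun n => ?_⟩
  · show filT Y n (n - max (b n) a + 1) = ⊤
    rw [filT, ← Subobject.isIso_iff_mk_eq_top, show n - (n - max (b n) a + 1) + 1 = max (b n) a by ring]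
    haveI : Epi (stepHom Y n (max (b n) a)) := by
      have := (Y.exact₂ (homOfLE (bot_le : (⊥ : EInt) ≤ ((max (b n) a : ℤ) : EInt))) (homOfLE le_top)
        (homOfLE (bot_le : (⊥ : EInt) ≤ ⊤)) rfl n).epi_f
          ((hb n _ _ _ (WithBotTop.coe_le_coe.2 (le_max_left _ _))).eq_of_tgt _ _)
      exact @epi_of_epi_fac _ _ _ _ _ _ _ _ this
        (Y.p_fromOpcycles _ _ (homOfLE (bot_le : (⊥ : EInt) ≤ ⊤)) rfl n)
    exact isIso_of_mono_of_epi _
  · show filT Y n (n - a + 1) = ⊥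
    suffices e : ∀ j, j = a → Subobject.mk (stepHom Y n j) = ⊥ from e _ (by ring)
    intro j hj
    subst hj
    refine Subobject.mk_eq_bot_iff_zero.2 ?_
    rw [← cancel_epi (Y.pOpcycles _ _ n), comp_zero, Y.p_fromOpcycles]
    exact (ha _ _ _ le_rfl n).eq_of_src _ _
  · refine (Set.finite_Icc (n - (b n)) (n - a)).subset fun p hp => ?_
    simp only [Set.mem_setOf_eq] at hp
    by_contra h
    refine hp (hz 2 le_rfl p (n - p) ?_)
    simp only [Set.mem_Icc] at h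
    rw [show p + (n - p) = n by ring]
    omega

/-- Existence form of the spectral sequence of a bounded spectral object. -/
theorem exists_spectralSequence (a : ℤ)
    (ha : ∀ (i j : EInt) (h : i ≤ j), j ≤ (a : EInt) → ∀ n, IsZero ((Y.H n).obj (mk₁ (homOfLE h))))
    (b : ℤ → ℤ)
    (hb : ∀ (n : ℤ) (i j : EInt) (h : i ≤ j), (b n : EInt) ≤ i → IsZero ((Y.H n).obj (mk₁ (homOfLE h))))
    (H : ℤ → C) (eH : ∀ n, total Y n ≅ H n) :
    ∃ (E : E₂CohomologicalSpectralSequence C) (ab : SpSeq.Abutment E H),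
      (∀ n, ab.IsFinite n) ∧ SpSeq.IsBounded E ∧
      ∀ p q : ℤ, Nonempty ((E.page 2 le_rfl).X (p, q) ≅
        (Y.H (p + q)).obj (mk₁ (homOfLE (WithBotTop.coe_le_coe.2 (by omega) : (q : EInt) ≤ ((q + 1 : ℤ) : EInt))))) := by
  obtain ⟨ab, h1, h2⟩ := exists_abutment a ha b hb
  exact ⟨_, transportAbutment ab eH, fun n => isFinite_transportAbutment ab eH n (h1 n), h2, fun p q =>
    ⟨Y.spectralSequenceFirstPageXIso SpectralObject.coreE₂Cohomological (p, q) (q : EInt) ((q + 1 : ℤ) : EInt)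
      rfl rfl (p + q) rfl⟩⟩

end Object

end Groth.Agent.SpecSeq
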